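import Groth.Agent.H20.RegularFlat
import Mathlib.RingTheory.Regular.Flat
import Mathlib.RingTheory.Flat.Stability
import Mathlib.LinearAlgebra.TensorProduct.Quotient

/-!
# Flatness and regular sequences

For a regular sequence `rs` of `R` inside the radical, a finite module `M` is flat iff `M ⧸ rs M` is
flat over `R ⧸ rs` and `rs` is regular on `M`.
-/

set_option linter.style.haveILetI false

universe u

open TensorProduct RingTheory.Sequence

namespace Groth.Agent.Lib.FlatRegular.Basic

/-- Flatness over quotients of `A` only depends on the underlying `A`-module. -/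
theorem flat_of_surjective_of_equiv {A K K' : Type u} [CommRing A] [CommRing K] [CommRing K']
    [Algebra A K] [Algebra A K'] (h' : Function.Surjective (algebraMap A K')) (e : K ≃ₐ[A] K')
    {X Y : Type u} [AddCommGroup X] [Module A X] [Module K X] [IsScalarTower A K X]
    [AddCommGroup Y] [Module A Y] [Module K' Y] [IsScalarTower A K' Y]
    (eXY : Y ≃ₗ[A] X) [Module.Flat K X] : Module.Flat K' Y := by
  letI : Algebra K K' := e.toRingEquiv.toRingHom.toAlgebra
  haveI : IsScalarTower A K K' := IsScalarTower.of_algebraMap_eq fun a => (e.commutes a).symm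
  let eK : K ≃ₗ[K] K' := LinearEquiv.ofBijective (Algebra.linearMap K K') e.bijective
  let e₁ : K' ⊗[K] X ≃ₗ[A] X :=
    ((TensorProduct.congr eK.symm (LinearEquiv.refl K X)).trans (TensorProduct.lid K X)).restrictScalars A
  exact Module.Flat.of_linearEquiv ((eXY.trans e₁.symm).extendScalarsOfSurjective h')

variable {R : Type u} [CommRing R] (S : Type u) [CommRing S] [Algebra R S]

/-- `M ⧸ J M` is flat over `R ⧸ J` iff `(R ⧸ J) ⊗ M` is. -/
theorem flat_quotSMul_iff (J : Ideal R) (M : Type u) [AddCommGroup M] [Module R M] :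
    Module.Flat (R ⧸ J) ((R ⧸ J) ⊗[R] M) ↔
      Module.Flat (R ⧸ J) (M ⧸ (J • ⊤ : Submodule R M)) := by
  have e := quotTensorEquivQuotSMul M J
  exact ⟨fun _ => flat_of_surjective_of_equiv Ideal.Quotient.mk_surjective AlgEquiv.refl e.symm,
    fun _ => flat_of_surjective_of_equiv Ideal.Quotient.mk_surjective AlgEquiv.refl e⟩

theorem flat_iff [IsNoetherianRing R] [IsNoetherianRing S] (M : Type u) [AddCommGroup M] [Module S M]
    [Module R M] [IsScalarTower R S M] [Module.Finite S M] (rs : List R)
    (hR : IsWeaklyRegular R rs) (hjac : (Ideal.ofList rs).map (algebraMap R S) ≤ Ideal.jacobson ⊥) :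
    Module.Flat R M ↔
      Module.Flat (R ⧸ Ideal.ofList rs) ((R ⧸ Ideal.ofList rs) ⊗[R] M) ∧ IsWeaklyRegular M rs := by
  constructor
  · intro _
    refine ⟨inferInstance, ?_⟩
    exact (TensorProduct.rid R M).isWeaklyRegular_congr rs |>.1 (hR.isWeaklyRegular_lTensor (M₂ := M))
  · rintro ⟨_, hM⟩
    exact Lib.LocalFlat.Criterion.flat_of_injective_of_flat_quotient S (Ideal.ofList rs) hjac
      (H20.RegularFlat.tor1Zero_quotient_ofList rs hR hM).injective_subtype

end Groth.Agent.Lib.FlatRegular.Basic
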